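import Mathlib

/-!
# S4719 (helper79's sheet): the Brauer–Wielandt chain [BW1] [BW2] [BWJ] [BWC] [BW3] (helper93)
-/

set_option autoImplicit false

namespace Cfsg.Agent.Lib.Helper79.S4719

universe u

variable {G : Type u} [Group G]

/-- [BW1] -/
theorem conj_of_inverted (t x : G) (ht : t * t = 1) (hx : Odd (orderOf x))
    (hinv : t * x * t⁻¹ = x⁻¹) : ∃ y ∈ Subgroup.zpowers x, x * t = y * t * y⁻¹ := by
  obtain ⟨m, hm⟩ := hx
  refine ⟨x ^ (m + 1), Subgroup.pow_mem _ (Subgroup.mem_zpowers x) _, ?_⟩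
  set y := x ^ (m + 1) with hy
  have hyy : y * y = x := by
    rw [hy, ← pow_add]
    have : m + 1 + (m + 1) = orderOf x + 1 := by omega
    rw [this, pow_succ, pow_orderOf_eq_one, one_mul]
  have hty : t * y * t⁻¹ = y⁻¹ := by
    rw [hy, ← conj_pow, hinv, inv_pow]
  have hty' : t * y⁻¹ = y * t := by
    have h1 : t * y⁻¹ * t⁻¹ = y := by
      have := congrArg (fun g => g⁻¹) hty
      simpa [mul_assoc] using this
    calc t * y⁻¹ = (t * y⁻¹ * t⁻¹) * t := by group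
      _ = y * t := by rw [h1]
  calc x * t = y * y * t := by rw [hyy]
    _ = y * (t * y⁻¹) := by rw [hty', mul_assoc]
    _ = y * t * y⁻¹ := by rw [mul_assoc]

/-- [BW2] -/
theorem exists_commuting_involution [Finite G] (K : Subgroup G) [K.Normal] (hK : Odd (Nat.card K))
    (t₁ t₂ : G) (ht₁ : t₁ * t₁ = 1) (ht₂ : t₂ * t₂ = 1) (hc : Commute t₁ t₂)
    (s₁ s₂ : G) (h₁ : s₁ * s₁ = 1) (h₂ : s₂ * s₂ = 1)
    (hs₁ : s₁ * t₁⁻¹ ∈ K) (hs₂ : s₂ * t₂⁻¹ ∈ K) :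
    ∃ z : G, z * z = 1 ∧ z * (t₁ * t₂)⁻¹ ∈ K ∧ Commute z s₁ ∧ Commute z s₂ := by
  set π := QuotientGroup.mk' K with hπ
  have hmem : ∀ a b : G, a * b⁻¹ ∈ K ↔ π a = π b := by
    intro a b
    rw [← QuotientGroup.eq_one_iff, ← QuotientGroup.mk'_apply, ← hπ, map_mul, map_inv,
      mul_inv_eq_one]
  have e₁ : π s₁ = π t₁ := (hmem _ _).mp hs₁
  have e₂ : π s₂ = π t₂ := (hmem _ _).mp hs₂
  set t₃ := t₁ * t₂ with ht₃
  have ht₃sq : t₃ * t₃ = 1 := by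
    rw [ht₃]
    calc t₁ * t₂ * (t₁ * t₂) = t₁ * (t₂ * t₁) * t₂ := by group
      _ = t₁ * (t₁ * t₂) * t₂ := by rw [hc.eq]
      _ = (t₁ * t₁) * (t₂ * t₂) := by group
      _ = 1 := by rw [ht₁, ht₂, one_mul]
  set w := s₁ * s₂ with hw
  have hπw : π w = π t₃ := by rw [hw, ht₃, map_mul, map_mul, e₁, e₂]
  have hwwK : w * w ∈ K := by
    rw [← QuotientGroup.eq_one_iff, ← QuotientGroup.mk'_apply, ← hπ, map_mul, hπw, ← map_mul,
      ht₃sq, map_one]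
  have hodd : Odd (orderOf (w * w)) := by
    have hdvd : orderOf (w * w) ∣ Nat.card K := by
      have := Subgroup.orderOf_dvd_natCard K hwwK
      exact this
    exact Odd.of_dvd_nat hK hdvd
  set n := orderOf (w * w) with hn
  refine ⟨w ^ n, ?_, ?_, ?_, ?_⟩
  · rw [← (Commute.refl w).mul_pow n, hn, pow_orderOf_eq_one]
  · rw [hmem, map_pow, hπw]
    obtain ⟨m, hm⟩ := hodd
    have hsq : π t₃ * π t₃ = 1 := by rw [← map_mul, ht₃sq, map_one]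
    rw [hm, pow_succ, pow_mul, pow_two, hsq, one_pow, one_mul]
  · have hs₁inv : s₁⁻¹ = s₁ := inv_eq_of_mul_eq_one_left h₁
    have hs₂inv : s₂⁻¹ = s₂ := inv_eq_of_mul_eq_one_left h₂
    have hconj : s₁ * w * s₁⁻¹ = w⁻¹ := by
      rw [hw, mul_inv_rev, hs₁inv, hs₂inv, ← mul_assoc, h₁, one_mul]
    have hz : s₁ * w ^ n * s₁⁻¹ = (w ^ n)⁻¹ := by rw [← conj_pow, hconj, inv_pow]
    have hzz : (w ^ n) * (w ^ n) = 1 := by
      rw [← (Commute.refl w).mul_pow n, hn, pow_orderOf_eq_one]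
    have hzinv : (w ^ n)⁻¹ = w ^ n := inv_eq_of_mul_eq_one_left hzz
    rw [hzinv] at hz
    show w ^ n * s₁ = s₁ * w ^ n
    calc w ^ n * s₁ = (s₁ * w ^ n * s₁⁻¹) * s₁ := by rw [hz]
      _ = s₁ * w ^ n := by group
  · have hs₁inv : s₁⁻¹ = s₁ := inv_eq_of_mul_eq_one_left h₁
    have hs₂inv : s₂⁻¹ = s₂ := inv_eq_of_mul_eq_one_left h₂
    have hconj : s₂ * w * s₂⁻¹ = w⁻¹ := by
      rw [hw, mul_inv_rev, hs₁inv, hs₂inv]
      calc s₂ * (s₁ * s₂) * s₂ = s₂ * s₁ * (s₂ * s₂) := by group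
        _ = s₂ * s₁ := by rw [h₂, mul_one]
    have hz : s₂ * w ^ n * s₂⁻¹ = (w ^ n)⁻¹ := by rw [← conj_pow, hconj, inv_pow]
    have hzz : (w ^ n) * (w ^ n) = 1 := by
      rw [← (Commute.refl w).mul_pow n, hn, pow_orderOf_eq_one]
    have hzinv : (w ^ n)⁻¹ = w ^ n := inv_eq_of_mul_eq_one_left hzz
    rw [hzinv] at hz
    show w ^ n * s₂ = s₂ * w ^ n
    calc w ^ n * s₂ = (s₂ * w ^ n * s₂⁻¹) * s₂ := by rw [hz]
      _ = s₂ * w ^ n := by group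

/-- every involution of the coset `K t` is a `K`-conjugate of `t` (helper for [BWJ], [BWC]) -/
theorem BWaux.exists_conj_of_mem_coset [Finite G] (K : Subgroup G) [K.Normal]
    (hK : Odd (Nat.card K)) (t : G) (ht : t * t = 1) (s : G) (hs : s * s = 1)
    (hsK : s * t⁻¹ ∈ K) : ∃ k ∈ K, s = k * t * k⁻¹ := by
  have htinv : t⁻¹ = t := inv_eq_of_mul_eq_one_left ht
  set x := s * t⁻¹ with hx
  have hsx : s = x * t := by rw [hx, inv_mul_cancel_right]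
  have hinv : t * x * t⁻¹ = x⁻¹ := by
    have h1 : x * t * (x * t) = 1 := by rw [← hsx]; exact hs
    have h2 : x * (t * x * t) = 1 := by rw [← h1]; group
    rw [htinv]
    exact (eq_inv_of_mul_eq_one_right h2)
  have hodd : Odd (orderOf x) :=
    Odd.of_dvd_nat hK (Subgroup.orderOf_dvd_natCard K hsK)
  obtain ⟨y, hy, hxy⟩ := conj_of_inverted t x ht hodd hinv
  refine ⟨y, ?_, by rw [hsx, hxy]⟩
  exact (Subgroup.zpowers_le.mpr hsK) hy

/-- [BWJ] -/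
theorem card_coset_involutions [Finite G] (K : Subgroup G) [K.Normal] (hK : Odd (Nat.card K))
    (t : G) (ht : t * t = 1) :
    Nat.card {s : G // s * s = 1 ∧ s * t⁻¹ ∈ K} *
      Nat.card ↥(K ⊓ Subgroup.centralizer ({t} : Set G)) = Nat.card K := by
  classical
  -- a section `σ : J → K` of `k ↦ k t k⁻¹`
  have hex : ∀ s : {s : G // s * s = 1 ∧ s * t⁻¹ ∈ K}, ∃ k : ↥K, (s : G) = k * t * (k : G)⁻¹ := by
    rintro ⟨s, hs, hsK⟩
    obtain ⟨k, hk, hsk⟩ := BWaux.exists_conj_of_mem_coset K hK t ht s hs hsK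
    exact ⟨⟨k, hk⟩, hsk⟩
  choose σ hσ using hex
  rw [← Nat.card_prod]
  apply Nat.card_congr
  refine Equiv.ofBijective
    (fun p : {s : G // s * s = 1 ∧ s * t⁻¹ ∈ K} × ↥(K ⊓ Subgroup.centralizer ({t} : Set G)) =>
      (⟨(σ p.1 : G) * (p.2 : G), K.mul_mem (σ p.1).2 p.2.2.1⟩ : ↥K)) ⟨?_, ?_⟩
  · rintro ⟨j, h⟩ ⟨j', h'⟩ heq
    have heq' : (σ j : G) * (h : G) = (σ j' : G) * (h' : G) := congrArg Subtype.val heq
    have hcent : ∀ u : ↥(K ⊓ Subgroup.centralizer ({t} : Set G)), (u : G) * t * (u : G)⁻¹ = t := by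
      intro u
      have := (Subgroup.mem_centralizer_iff.mp u.2.2) t (Set.mem_singleton t)
      rw [← this, mul_inv_cancel_right]
    have hj : (j : G) = (j' : G) := by
      calc (j : G) = (σ j : G) * t * (σ j : G)⁻¹ := hσ j
        _ = (σ j : G) * ((h : G) * t * (h : G)⁻¹) * (σ j : G)⁻¹ := by rw [hcent h]
        _ = ((σ j : G) * (h : G)) * t * ((σ j : G) * (h : G))⁻¹ := by group
        _ = ((σ j' : G) * (h' : G)) * t * ((σ j' : G) * (h' : G))⁻¹ := by rw [heq']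
        _ = (σ j' : G) * ((h' : G) * t * (h' : G)⁻¹) * (σ j' : G)⁻¹ := by group
        _ = (σ j' : G) * t * (σ j' : G)⁻¹ := by rw [hcent h']
        _ = (j' : G) := (hσ j').symm
    have hjj : j = j' := Subtype.ext hj
    subst hjj
    have hh : (h : G) = (h' : G) := mul_left_cancel heq'
    exact Prod.ext rfl (Subtype.ext hh)
  · rintro ⟨k, hk⟩
    have hjmem : (k * t * k⁻¹) * (k * t * k⁻¹) = 1 ∧ (k * t * k⁻¹) * t⁻¹ ∈ K := by
      refine ⟨?_, ?_⟩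
      · calc (k * t * k⁻¹) * (k * t * k⁻¹) = k * (t * t) * k⁻¹ := by group
          _ = 1 := by rw [ht, mul_one, mul_inv_cancel]
      · have : (k * t * k⁻¹) * t⁻¹ = k * (t * k⁻¹ * t⁻¹) := by group
        rw [this]
        exact K.mul_mem hk (Subgroup.Normal.conj_mem inferInstance _ (K.inv_mem hk) t)
    set j : {s : G // s * s = 1 ∧ s * t⁻¹ ∈ K} := ⟨k * t * k⁻¹, hjmem⟩ with hj
    have hσj : k * t * k⁻¹ = (σ j : G) * t * (σ j : G)⁻¹ := hσ j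
    have hmemK : (σ j : G)⁻¹ * k ∈ K := K.mul_mem (K.inv_mem (σ j).2) hk
    have hmemC : (σ j : G)⁻¹ * k ∈ Subgroup.centralizer ({t} : Set G) := by
      rw [Subgroup.mem_centralizer_iff]
      intro u hu
      rw [Set.mem_singleton_iff] at hu
      subst hu
      have : (σ j : G)⁻¹ * (k * u * k⁻¹) * (σ j : G) = u := by
        rw [hσj]; group
      calc u * ((σ j : G)⁻¹ * k) = ((σ j : G)⁻¹ * (k * u * k⁻¹) * (σ j : G)) * ((σ j : G)⁻¹ * k) := by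
            rw [this]
        _ = (σ j : G)⁻¹ * k * u := by group
    refine ⟨(j, ⟨(σ j : G)⁻¹ * k, hmemK, hmemC⟩), ?_⟩
    apply Subtype.ext
    show (σ j : G) * ((σ j : G)⁻¹ * k) = k
    group

/-- [BWC] -/
theorem card_commuting_le [Finite G] (K : Subgroup G) [K.Normal] (hK : Odd (Nat.card K))
    (t t' z : G) (ht' : t' * t' = 1) (hc : Commute t t') (hz : z * z = 1) (hzK : z * t'⁻¹ ∈ K) :
    Nat.card {s : G // (s * s = 1 ∧ s * t⁻¹ ∈ K) ∧ Commute z s} ≤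
      Nat.card ↥(K ⊓ Subgroup.centralizer ({t'} : Set G)) := by
  obtain ⟨k, hk, hzk⟩ := BWaux.exists_conj_of_mem_coset K hK t' ht' z hz hzK
  have ht'z : t' = k⁻¹ * z * k := by rw [hzk]; group
  have hmem : ∀ s : {s : G // (s * s = 1 ∧ s * t⁻¹ ∈ K) ∧ Commute z s},
      (k⁻¹ * (s : G) * k) * t⁻¹ ∈ K ⊓ Subgroup.centralizer ({t'} : Set G) := by
    rintro ⟨s, ⟨hs, hsK⟩, hzs⟩
    refine ⟨?_, ?_⟩
    · have : (k⁻¹ * s * k) * t⁻¹ = k⁻¹ * (s * t⁻¹) * (t * k * t⁻¹) := by group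
      show (k⁻¹ * s * k) * t⁻¹ ∈ K
      rw [this]
      exact K.mul_mem (K.mul_mem (K.inv_mem hk) hsK)
        (Subgroup.Normal.conj_mem inferInstance _ hk t)
    · show (k⁻¹ * s * k) * t⁻¹ ∈ Subgroup.centralizer ({t'} : Set G)
      rw [Subgroup.mem_centralizer_iff]
      intro u hu
      rw [Set.mem_singleton_iff] at hu
      subst hu
      show u * ((k⁻¹ * s * k) * t⁻¹) = ((k⁻¹ * s * k) * t⁻¹) * u
      have h1 : Commute u (k⁻¹ * s * k) := by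
        show u * (k⁻¹ * s * k) = (k⁻¹ * s * k) * u
        rw [ht'z]
        calc k⁻¹ * z * k * (k⁻¹ * s * k) = k⁻¹ * (z * s) * k := by group
          _ = k⁻¹ * (s * z) * k := by rw [hzs.eq]
          _ = k⁻¹ * s * k * (k⁻¹ * z * k) := by group
      have h2 : Commute u t⁻¹ := (hc.symm).inv_right
      exact (h1.mul_right h2).eq
  apply Nat.card_le_card_of_injective (fun s => (⟨_, hmem s⟩ : ↥(K ⊓ Subgroup.centralizer ({t'} : Set G))))
  rintro ⟨s, hs⟩ ⟨s', hs'⟩ heq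
  have heq' : (k⁻¹ * s * k) * t⁻¹ = (k⁻¹ * s' * k) * t⁻¹ := congrArg Subtype.val heq
  have h1 : k⁻¹ * s * k = k⁻¹ * s' * k := mul_right_cancel heq'
  have h2 : k⁻¹ * s = k⁻¹ * s' := mul_right_cancel h1
  exact Subtype.ext (mul_left_cancel h2)

/-- [BW3] -/
theorem card_le_of_klein [Finite G] (K : Subgroup G) [K.Normal] (hK : Odd (Nat.card K))
    (t₁ t₂ : G) (h₁ : t₁ * t₁ = 1) (h₂ : t₂ * t₂ = 1) (hc : Commute t₁ t₂) :
    Nat.card K ≤ Nat.card ↥(K ⊓ Subgroup.centralizer ({t₁} : Set G)) *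
      Nat.card ↥(K ⊓ Subgroup.centralizer ({t₂} : Set G)) *
      Nat.card ↥(K ⊓ Subgroup.centralizer ({t₁ * t₂} : Set G)) := by
  classical
  set t₃ := t₁ * t₂ with ht₃
  have h₃ : t₃ * t₃ = 1 := by
    rw [ht₃]
    calc t₁ * t₂ * (t₁ * t₂) = t₁ * (t₂ * t₁) * t₂ := by group
      _ = t₁ * (t₁ * t₂) * t₂ := by rw [hc.eq]
      _ = (t₁ * t₁) * (t₂ * t₂) := by group
      _ = 1 := by rw [h₁, h₂, one_mul]
  have hc13 : Commute t₁ t₃ := (Commute.refl t₁).mul_right hc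
  have hc23 : Commute t₂ t₃ := hc.symm.mul_right (Commute.refl t₂)
  set c₁ := Nat.card ↥(K ⊓ Subgroup.centralizer ({t₁} : Set G)) with hc₁
  set c₂ := Nat.card ↥(K ⊓ Subgroup.centralizer ({t₂} : Set G)) with hc₂
  set c₃ := Nat.card ↥(K ⊓ Subgroup.centralizer ({t₃} : Set G)) with hc₃
  have e₁ := card_coset_involutions K hK t₁ h₁
  have e₂ := card_coset_involutions K hK t₂ h₂
  have e₃ := card_coset_involutions K hK t₃ h₃
  rw [← hc₁] at e₁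
  rw [← hc₂] at e₂
  rw [← hc₃] at e₃
  set J₁ := {s : G // s * s = 1 ∧ s * t₁⁻¹ ∈ K} with hJ₁
  set J₂ := {s : G // s * s = 1 ∧ s * t₂⁻¹ ∈ K} with hJ₂
  set J₃ := {s : G // s * s = 1 ∧ s * t₃⁻¹ ∈ K} with hJ₃
  -- the choice of `z`
  have hex : ∀ p : J₁ × J₂, ∃ z : J₃, Commute (z : G) (p.1 : G) ∧ Commute (z : G) (p.2 : G) := by
    rintro ⟨⟨s₁, hs₁, hs₁K⟩, ⟨s₂, hs₂, hs₂K⟩⟩
    obtain ⟨z, hz, hzK, hz1, hz2⟩ :=
      exists_commuting_involution K hK t₁ t₂ h₁ h₂ hc s₁ s₂ hs₁ hs₂ hs₁K hs₂K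
    exact ⟨⟨z, hz, hzK⟩, hz1, hz2⟩
  choose ζ hζ using hex
  have hinj : Nat.card (J₁ × J₂) ≤ Nat.card (Σ z : J₃,
      {s : G // (s * s = 1 ∧ s * t₁⁻¹ ∈ K) ∧ Commute (z : G) s} ×
      {s : G // (s * s = 1 ∧ s * t₂⁻¹ ∈ K) ∧ Commute (z : G) s}) := by
    apply Nat.card_le_card_of_injective (fun p : J₁ × J₂ =>
      (⟨ζ p, (⟨(p.1 : G), p.1.2, (hζ p).1⟩, ⟨(p.2 : G), p.2.2, (hζ p).2⟩)⟩ :
        Σ z : J₃, {s : G // (s * s = 1 ∧ s * t₁⁻¹ ∈ K) ∧ Commute (z : G) s} ×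
          {s : G // (s * s = 1 ∧ s * t₂⁻¹ ∈ K) ∧ Commute (z : G) s}))
    rintro ⟨a, b⟩ ⟨a', b'⟩ heq
    have h1 := congrArg (fun q => ((q.2.1 : G), (q.2.2 : G))) heq
    simp only [Prod.mk.injEq] at h1
    exact Prod.ext (Subtype.ext h1.1) (Subtype.ext h1.2)
  have hsig : Nat.card (Σ z : J₃,
      {s : G // (s * s = 1 ∧ s * t₁⁻¹ ∈ K) ∧ Commute (z : G) s} ×
      {s : G // (s * s = 1 ∧ s * t₂⁻¹ ∈ K) ∧ Commute (z : G) s}) ≤ Nat.card J₃ * (c₃ * c₃) := by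
    have : Fintype J₃ := Fintype.ofFinite J₃
    rw [Nat.card_sigma]
    calc ∑ z : J₃, Nat.card ({s : G // (s * s = 1 ∧ s * t₁⁻¹ ∈ K) ∧ Commute (z : G) s} ×
          {s : G // (s * s = 1 ∧ s * t₂⁻¹ ∈ K) ∧ Commute (z : G) s})
        ≤ ∑ _z : J₃, c₃ * c₃ := by
          apply Finset.sum_le_sum
          intro z _
          rw [Nat.card_prod]
          exact Nat.mul_le_mul
            (card_commuting_le K hK t₁ t₃ (z : G) h₃ hc13 z.2.1 z.2.2)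
            (card_commuting_le K hK t₂ t₃ (z : G) h₃ hc23 z.2.1 z.2.2)
      _ = Nat.card J₃ * (c₃ * c₃) := by
          rw [Finset.sum_const, Finset.card_univ, smul_eq_mul, Nat.card_eq_fintype_card]
  rw [Nat.card_prod] at hinj
  have hle : Nat.card J₁ * Nat.card J₂ ≤ Nat.card J₃ * (c₃ * c₃) := hinj.trans hsig
  have hKpos : 0 < Nat.card K := Nat.card_pos
  -- |K|² ≤ c₁ c₂ c₃ |K|
  have hfin : Nat.card K * Nat.card K ≤ (c₁ * c₂ * c₃) * Nat.card K := by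
    calc Nat.card K * Nat.card K = (Nat.card J₁ * c₁) * (Nat.card J₂ * c₂) := by rw [e₁, e₂]
      _ = (Nat.card J₁ * Nat.card J₂) * (c₁ * c₂) := by ring
      _ ≤ (Nat.card J₃ * (c₃ * c₃)) * (c₁ * c₂) := Nat.mul_le_mul_right _ hle
      _ = (c₁ * c₂ * c₃) * (Nat.card J₃ * c₃) := by ring
      _ = (c₁ * c₂ * c₃) * Nat.card K := by rw [e₃]
  exact Nat.le_of_mul_le_mul_right hfin hKpos

end Cfsg.Agent.Lib.Helper79.S4719
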